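import Mathlib
import Cfsg.Prelude.Def_SubgroupEmbedding
import Cfsg.Agent.Lib.Transfer.Basic

/-!
# Extremely closed abelian 2-subgroups: the factor map

For an extremely closed abelian 2-subgroup `H` and `g : G`, the join `K` of `H` and `g H g⁻¹` has a
normal 2-complement `R` meeting `N(H)` trivially, so `g = r * n` with `r ∈ R`, `n ∈ N(H)` unique.
`phi g` is the automorphism of `H` induced by `n`.
-/

set_option autoImplicit false

namespace CfsgLib.ExtClosed

open Cfsg

variable {G : Type*} [Group G] [Finite G] {H : Subgroup G}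

/-- Standing hypothesis. -/
structure Hyp (H : Subgroup G) : Prop where
  two : IsPGroup 2 H
  comm : IsMulCommutative H
  closed : IsExtremelyClosed H

/-- The subgroup generated by `H` and its conjugate by `g`. -/
def kJoin (H : Subgroup G) (g : G) : Subgroup G := H ⊔ H.map (MulAut.conj g).toMonoidHom

theorem le_kJoin (H : Subgroup G) (g : G) : H ≤ kJoin H g := le_sup_left

theorem conj_mem_kJoin (H : Subgroup G) (g : G) {h : G} (hh : h ∈ H) :
    g * h * g⁻¹ ∈ kJoin H g :=
  Subgroup.mem_sup_right ⟨h, hh, rfl⟩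

theorem kJoin_le {g : G} {K : Subgroup G} (h1 : H ≤ K) (h2 : ∀ h ∈ H, g * h * g⁻¹ ∈ K) :
    kJoin H g ≤ K := by
  refine sup_le h1 ?_
  rintro _ ⟨h, hh, rfl⟩
  exact h2 h hh

theorem mem_normalizer_of_conj_mem {x : G} (h : ∀ y ∈ H, x * y * x⁻¹ ∈ H) :
    x ∈ Subgroup.normalizer (H : Set G) := by
  have he : H.map (MulAut.conj x).toMonoidHom = H := by
    refine Subgroup.eq_of_le_of_card_ge ?_ ?_
    · rintro _ ⟨y, hy, rfl⟩
      exact h y hy
    · rw [Subgroup.card_map_of_injective (MulAut.conj x).injective]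
  rw [Subgroup.mem_normalizer_iff]
  intro y
  refine ⟨h y, fun hy => ?_⟩
  obtain ⟨z, hz, hzy⟩ := he.ge hy
  have : z = y := by
    simpa using hzy
  exact this ▸ hz

theorem conj_mem_of_mem_normalizer {x y : G} (hx : x ∈ Subgroup.normalizer (H : Set G))
    (hy : y ∈ H) : x * y * x⁻¹ ∈ H :=
  (Subgroup.mem_normalizer_iff.mp hx y).mp hy

/-- An element of odd order in `O * H` lies in `O`, for `O` of odd order normalized by the
2-group `H`. -/
theorem eq_one_of_mul {O : Subgroup G} (hO : Odd (Nat.card O)) (h2 : IsPGroup 2 H)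
    (hHO : H ≤ Subgroup.normalizer (O : Set G)) {o k : G} (ho : o ∈ O) (hk : k ∈ H)
    (hx : Odd (orderOf (o * k))) : k = 1 := by
  have key : ∀ m : ℕ, ∃ o' ∈ O, (o * k) ^ m = o' * k ^ m := by
    intro m
    induction m with
    | zero => exact ⟨1, one_mem _, by simp⟩
    | succ m ih =>
      obtain ⟨o', ho', e⟩ := ih
      refine ⟨o' * (k ^ m * o * (k ^ m)⁻¹),
        mul_mem ho' ((Subgroup.mem_normalizer_iff.mp (hHO (pow_mem hk m)) o).mp ho), ?_⟩
      rw [pow_succ, e, pow_succ]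
      group
  obtain ⟨j, hj⟩ := h2 ⟨k, hk⟩
  have hk2 : k ^ (2 ^ j) = 1 := by
    have := congrArg Subtype.val hj
    simpa using this
  obtain ⟨o', ho', e⟩ := key (orderOf (o * k))
  rw [pow_orderOf_eq_one] at e
  have hkm : k ^ orderOf (o * k) ∈ O := by
    rw [eq_comm, mul_eq_one_iff_eq_inv'] at e
    rw [e]
    exact inv_mem ho'
  have hkm2 : (k ^ orderOf (o * k)) ^ (2 ^ j) = 1 := by
    rw [← pow_mul, mul_comm, pow_mul, hk2, one_pow]
  have h1 : k ^ orderOf (o * k) = 1 := by
    rw [← orderOf_eq_one_iff]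
    refine Nat.eq_one_of_dvd_coprimes ?_ (O.orderOf_dvd_natCard hkm) (orderOf_dvd_of_pow_eq_one hkm2)
    exact Nat.Coprime.pow_right j hO.coprime_two_right
  rw [← orderOf_eq_one_iff]
  refine Nat.eq_one_of_dvd_coprimes ?_ (orderOf_dvd_of_pow_eq_one h1) (orderOf_dvd_of_pow_eq_one hk2)
  exact Nat.Coprime.pow_right j hx.coprime_two_right

theorem odd_orderOf_of_mem {O : Subgroup G} (hO : Odd (Nat.card O)) {x : G} (hx : x ∈ O) :
    Odd (orderOf x) :=
  hO.of_dvd_nat (O.orderOf_dvd_natCard hx)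

theorem eq_one_of_odd_mem (h2 : IsPGroup 2 H) {x : G} (hx : Odd (orderOf x)) (hxH : x ∈ H) :
    x = 1 :=
  eq_one_of_mul (O := ⊥) (by simp) h2
    (fun y _ => by rw [Subgroup.mem_normalizer_iff]; simp) (one_mem _) hxH (by rwa [one_mul])

namespace Hyp

variable (h : Hyp H)
include h

theorem mul_comm_mem {a b : G} (ha : a ∈ H) (hb : b ∈ H) : a * b = b * a := by
  haveI := h.comm
  exact congrArg Subtype.val (mul_comm' (⟨a, ha⟩ : H) ⟨b, hb⟩)

theorem mem_of_conj_mem_normalizer {g x : G} (hx : x ∈ kJoin H g)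
    (hn : x ∈ Subgroup.normalizer (H : Set G)) : x ∈ H :=
  (h.closed g).le ⟨hx, hn⟩

/-- The normal 2-complement of `kJoin H g`. -/
theorem exists_complement (g : G) : ∃ R : Subgroup G, R ≤ kJoin H g ∧
    kJoin H g ≤ Subgroup.normalizer (R : Set G) ∧ Odd (Nat.card R) ∧
    (∀ x ∈ kJoin H g, ∃ r ∈ R, ∃ k ∈ H, x = r * k) ∧
    (∀ x ∈ R, x ∈ Subgroup.normalizer (H : Set G) → x = 1) ∧
    ∃ r ∈ R, r⁻¹ * g ∈ Subgroup.normalizer (H : Set G) := by
  classical
  set K := kJoin H g with hK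
  have hHK : H ≤ K := le_kJoin H g
  let S : Subgroup K := H.subgroupOf K
  have hSnorm : ∀ x : K, x ∈ Subgroup.normalizer (S : Set K) → x ∈ S := by
    intro x hx
    refine Subgroup.mem_subgroupOf.mpr (h.mem_of_conj_mem_normalizer x.2 ?_)
    refine mem_normalizer_of_conj_mem fun y hy => ?_
    exact ((Subgroup.mem_normalizer_iff.mp hx ⟨y, hHK hy⟩).mp hy)
  have hS2 : IsPGroup 2 S := h.two.comap_of_injective K.subtype K.subtype_injective
  obtain ⟨P, hP⟩ := hS2.exists_le_sylow
  have hPS : (P : Subgroup K) = S := by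
    refine le_antisymm ?_ hP
    by_contra hne
    have hlt : S.subgroupOf (P : Subgroup K) < ⊤ := by
      rw [lt_top_iff_ne_top, Ne, Subgroup.subgroupOf_eq_top]
      exact hne
    haveI := P.2.isNilpotent
    obtain ⟨x, hxn, hxS⟩ :=
      SetLike.exists_of_lt (Group.normalizerCondition_of_isNilpotent _ hlt)
    refine hxS (Subgroup.mem_subgroupOf.mpr (hSnorm x ?_))
    rw [Subgroup.mem_normalizer_iff]
    intro y
    by_cases hy : y ∈ (P : Subgroup K)
    · exact Subgroup.mem_normalizer_iff.mp hxn ⟨y, hy⟩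
    · constructor
      · intro hyS; exact absurd (hP hyS) hy
      · intro hyS
        refine absurd ?_ hy
        have := mul_mem (mul_mem (inv_mem x.2) (hP hyS)) x.2
        simpa [mul_assoc] using this
  have hcent : Subgroup.normalizer ((P : Subgroup K) : Set K) ≤
      Subgroup.centralizer ((P : Subgroup K) : Set K) := by
    intro x hx
    rw [hPS] at hx ⊢
    rw [Subgroup.mem_centralizer_iff]
    intro y hy
    exact Subtype.ext (h.mul_comm_mem hy (hSnorm x hx))
  obtain ⟨N, hNn, hc, hNodd⟩ : ∃ N : Subgroup K, N.Normal ∧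
      N.IsComplement' (P : Subgroup K) ∧ Odd (Nat.card N) := by
    refine ⟨_, MonoidHom.normal_ker _, MonoidHom.ker_transferSylow_isComplement' P hcent, ?_⟩
    have hnd := MonoidHom.not_dvd_card_ker_transferSylow P hcent
    exact Nat.not_even_iff_odd.mp fun he => hnd he.two_dvd
  set R := N.map K.subtype with hR
  have hRK : R ≤ K := Subgroup.map_subtype_le _
  have hRodd : Odd (Nat.card R) := by
    rw [hR, Subgroup.card_map_of_injective K.subtype_injective]
    exact hNodd
  have hKR : K ≤ Subgroup.normalizer (R : Set G) := by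
    intro x hx
    refine mem_normalizer_of_conj_mem ?_
    rintro _ ⟨y, hy, rfl⟩
    exact ⟨⟨x, hx⟩ * y * ⟨x, hx⟩⁻¹, hNn.conj_mem y hy ⟨x, hx⟩, rfl⟩
  have hdec : ∀ x : K, ∃ r ∈ N, ∃ k ∈ (P : Subgroup K), x = r * k := by
    intro x
    have hx : x ∈ N ⊔ (P : Subgroup K) := hc.sup_eq_top ▸ Subgroup.mem_top x
    obtain ⟨r, hr, k, hk, e⟩ := Subgroup.mem_sup_of_normal_left.mp hx
    exact ⟨r, hr, k, hk, e.symm⟩
  refine ⟨R, hRK, hKR, hRodd, ?_, ?_, ?_⟩
  · intro x hx
    obtain ⟨r, hr, k, hk, e⟩ := hdec ⟨x, hx⟩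
    exact ⟨r, ⟨r, hr, rfl⟩, k, (hPS ▸ hk : k ∈ S), congrArg Subtype.val e⟩
  · intro x hx hxn
    exact eq_one_of_odd_mem h.two (odd_orderOf_of_mem hRodd hx)
      (h.mem_of_conj_mem_normalizer (hRK hx) hxn)
  · let T : Subgroup G := H.map (MulAut.conj g).toMonoidHom
    have hTK : T ≤ K := le_sup_right
    have hT2 : IsPGroup 2 (T.subgroupOf K) :=
      (h.two.map _).comap_of_injective K.subtype K.subtype_injective
    obtain ⟨P2, hP2⟩ := hT2.exists_le_sylow
    have hP2eq : (P2 : Subgroup K) = T.subgroupOf K := by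
      refine (Subgroup.eq_of_le_of_card_ge hP2 ?_).symm
      have e1 : Nat.card (T.subgroupOf K) = Nat.card S := by
        rw [Nat.card_congr (Subgroup.subgroupOfEquivOfLe hTK).toEquiv,
          Nat.card_congr (Subgroup.subgroupOfEquivOfLe hHK).toEquiv]
        exact Subgroup.card_map_of_injective (MulAut.conj g).injective
      rw [e1, ← hPS, P.card_eq_multiplicity, P2.card_eq_multiplicity]
    obtain ⟨c, hcP⟩ := MulAction.exists_smul_eq K P P2
    obtain ⟨r, hr, k, hk, e⟩ := hdec c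
    refine ⟨r, ⟨r, hr, rfl⟩, ?_⟩
    refine mem_normalizer_of_conj_mem fun y hy => ?_
    have hgy : (⟨g * y * g⁻¹, conj_mem_kJoin H g hy⟩ : K) ∈ (P2 : Subgroup K) := by
      rw [hP2eq]
      exact ⟨y, hy, rfl⟩
    rw [← hcP, Sylow.coe_subgroup_smul, Subgroup.mem_pointwise_smul_iff_inv_smul_mem,
      hPS] at hgy
    have hk' : (k : G) ∈ H := (hPS ▸ hk : k ∈ S)
    have := conj_mem_of_mem_normalizer
      (Subgroup.le_normalizer hk') (show ((c : G))⁻¹ * (g * y * g⁻¹) * (c : G) ∈ H by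
        simpa [MulAut.smul_def, Subgroup.mem_subgroupOf, S] using hgy)
    have ec : (c : G) = (r : G) * (k : G) := congrArg Subtype.val e
    rw [ec] at this
    simpa [mul_assoc] using this

theorem exists_factor (g : G) : ∃ n ∈ Subgroup.normalizer (H : Set G),
    g * n⁻¹ ∈ kJoin H g ∧ Odd (orderOf (g * n⁻¹)) := by
  obtain ⟨R, hRK, -, hRo, -, -, r, hr, hn⟩ := h.exists_complement g
  refine ⟨_, hn, ?_⟩
  rw [mul_inv_rev, inv_inv, mul_inv_cancel_left]
  exact ⟨hRK hr, odd_orderOf_of_mem hRo hr⟩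

/-- The `N(H)`-part of `g`. -/
noncomputable def nPart (g : G) : Subgroup.normalizer (H : Set G) :=
  ⟨(h.exists_factor g).choose, (h.exists_factor g).choose_spec.1⟩

/-- The automorphism of `H` induced by the `N(H)`-part of `g`. -/
noncomputable def phi (g : G) : MulAut H := H.normalizerMonoidHom (h.nPart g)

theorem nPart_spec (g : G) : g * (h.nPart g : G)⁻¹ ∈ kJoin H g ∧
    Odd (orderOf (g * (h.nPart g : G)⁻¹)) :=
  (h.exists_factor g).choose_spec.2

theorem mem_of_odd {g x : G} {R : Subgroup G} (hKR : kJoin H g ≤ Subgroup.normalizer (R : Set G))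
    (hRo : Odd (Nat.card R)) (hdec : ∀ x ∈ kJoin H g, ∃ r ∈ R, ∃ k ∈ H, x = r * k)
    (hx : x ∈ kJoin H g) (hxo : Odd (orderOf x)) : x ∈ R := by
  obtain ⟨r, hr, k, hk, rfl⟩ := hdec x hx
  rw [eq_one_of_mul hRo h.two ((le_kJoin H g).trans hKR) hr hk hxo, mul_one]
  exact hr

theorem phi_eq {g r : G} (n : Subgroup.normalizer (H : Set G)) (hr : r ∈ kJoin H g)
    (hro : Odd (orderOf r)) (e : g = r * n) : h.phi g = H.normalizerMonoidHom n := by
  obtain ⟨R, -, hKR, hRo, hdec, htriv, -⟩ := h.exists_complement g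
  obtain ⟨h1, h2⟩ := h.nPart_spec g
  have hr1 := h.mem_of_odd hKR hRo hdec hr hro
  have hr2 := h.mem_of_odd hKR hRo hdec h1 h2
  have e' : r⁻¹ * (g * (h.nPart g : G)⁻¹) = (n : G) * (h.nPart g : G)⁻¹ := by
    rw [← mul_assoc, show r⁻¹ * g = (n : G) from inv_mul_eq_iff_eq_mul.mpr e]
  have hmem : r⁻¹ * (g * (h.nPart g : G)⁻¹) ∈ Subgroup.normalizer (H : Set G) := by
    rw [e']
    exact mul_mem n.2 (inv_mem (h.nPart g).2)
  have := htriv _ (mul_mem (inv_mem hr1) hr2) hmem
  rw [e', mul_inv_eq_one] at this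
  rw [phi]
  exact congrArg _ (Subtype.ext this.symm)

theorem phi_normalizer (n : Subgroup.normalizer (H : Set G)) :
    h.phi n = H.normalizerMonoidHom n :=
  h.phi_eq (r := 1) n (one_mem _) (by simp) (one_mul _).symm

theorem kJoin_mul_normalizer (g : G) {n : G} (hn : n ∈ Subgroup.normalizer (H : Set G)) :
    kJoin H (g * n) = kJoin H g := by
  refine le_antisymm (kJoin_le (le_kJoin H g) fun y hy => ?_)
    (kJoin_le (le_kJoin H _) fun y hy => ?_)
  · have := conj_mem_kJoin H g (conj_mem_of_mem_normalizer hn hy)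
    simpa [mul_assoc] using this
  · have := conj_mem_kJoin H (g * n) (conj_mem_of_mem_normalizer (inv_mem hn) hy)
    simpa [mul_assoc] using this

/-- The decomposition `g = r * n`. -/
theorem exists_phi (g : G) : ∃ (r : G) (n : Subgroup.normalizer (H : Set G)),
    r ∈ kJoin H r ∧ Odd (orderOf r) ∧ g = r * n ∧ h.phi g = H.normalizerMonoidHom n := by
  obtain ⟨h1, h2⟩ := h.nPart_spec g
  refine ⟨_, h.nPart g, ?_, h2, by rw [inv_mul_cancel_right], rfl⟩
  rw [h.kJoin_mul_normalizer g (inv_mem (h.nPart g).2)]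
  exact h1

theorem phi_r {r : G} (hr : r ∈ kJoin H r) (hro : Odd (orderOf r)) : h.phi r = 1 := by
  rw [h.phi_eq 1 hr hro (by simp), map_one]

theorem phi_mul_normalizer (g : G) (n : Subgroup.normalizer (H : Set G)) :
    h.phi (g * n) = h.phi g * H.normalizerMonoidHom n := by
  obtain ⟨r, m, hr, hro, e, he⟩ := h.exists_phi g
  rw [he, ← map_mul]
  refine h.phi_eq (r := r) (m * n) ?_ hro (by rw [e, mul_assoc]; rfl)
  rw [e, h.kJoin_mul_normalizer _ n.2, h.kJoin_mul_normalizer _ m.2]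
  exact hr

theorem phi_normalizer_mul (n : Subgroup.normalizer (H : Set G)) (g : G) :
    h.phi (n * g) = H.normalizerMonoidHom n * h.phi g := by
  obtain ⟨r, m, hr, hro, e, he⟩ := h.exists_phi g
  rw [he, ← map_mul]
  refine h.phi_eq (r := (n : G) * r * (n : G)⁻¹) (n * m) ?_ ?_
    (by rw [e, Subgroup.coe_mul]; group)
  · rw [e, ← mul_assoc, h.kJoin_mul_normalizer _ m.2]
    have hle : kJoin H r ≤ (kJoin H ((n : G) * r)).comap (MulAut.conj (n : G)).toMonoidHom :=
      kJoin_le (H := H) (fun y hy => le_kJoin H _ (conj_mem_of_mem_normalizer n.2 hy)) fun y hy => by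
        show (n : G) * (r * y * r⁻¹) * (n : G)⁻¹ ∈ kJoin H ((n : G) * r)
        have := conj_mem_kJoin H ((n : G) * r) hy
        simpa [mul_assoc] using this
    exact hle hr
  · have := MulEquiv.orderOf_eq (MulAut.conj (n : G)) r
    simp only [MulAut.conj_apply] at this
    rw [this]
    exact hro

/-- A 2-subgroup containing `H` normalizes it. -/
theorem twoGroup_le_normalizer {P : Subgroup G} (hP : IsPGroup 2 P) (hHP : H ≤ P) :
    P ≤ Subgroup.normalizer (H : Set G) := by
  intro p hp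
  obtain ⟨R, hRK, -, hRo, -, -, r, hr, hn⟩ := h.exists_complement p
  have hle : kJoin H p ≤ P := kJoin_le hHP fun y hy => mul_mem (mul_mem hp (hHP hy)) (inv_mem hp)
  rwa [eq_one_of_odd_mem hP (odd_orderOf_of_mem hRo hr) (hle (hRK hr)), inv_one, one_mul] at hn

theorem conj_mem_of_mem_normalizer' {g y : G} (hy : y ∈ H)
    (hn : g * y * g⁻¹ ∈ Subgroup.normalizer (H : Set G)) : g * y * g⁻¹ ∈ H :=
  h.mem_of_conj_mem_normalizer (conj_mem_kJoin H g hy) hn

/-- Hypothesis passes to overgroups of `H`. -/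
theorem subgroupOf {S : Subgroup G} (hS : H ≤ S) : Hyp (H.subgroupOf S) where
  two := h.two.comap_of_injective S.subtype S.subtype_injective
  comm := ⟨⟨fun a b => Subtype.ext (Subtype.ext (h.mul_comm_mem a.2 b.2))⟩⟩
  closed := by
    intro c
    refine le_antisymm ?_ (le_inf le_sup_left Subgroup.le_normalizer)
    rintro x ⟨hx, hxn⟩
    refine Subgroup.mem_subgroupOf.mpr (h.mem_of_conj_mem_normalizer (g := (c : G)) ?_ ?_)
    · have hle : H.subgroupOf S ⊔ (H.subgroupOf S).map (MulAut.conj c).toMonoidHom ≤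
          (kJoin H (c : G)).comap S.subtype := by
        refine sup_le (fun y hy => le_kJoin H _ hy) ?_
        rintro _ ⟨y, hy, rfl⟩
        exact conj_mem_kJoin H (c : G) hy
      exact hle hx
    · exact mem_normalizer_of_conj_mem fun y hy =>
        (Subgroup.mem_normalizer_iff.mp hxn ⟨y, hS hy⟩).mp hy

attribute [irreducible] phi nPart

end Hyp

end CfsgLib.ExtClosed
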