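import Cfsg.Agent.Lib.ExtClosed.Basic

/-!
# The factor map is multiplicative on involution centralizers

If the centralizer of an involution `u ∈ H` factorizes as `O * (C ∩ N(H))`, then
`phi (x * g) = phi x * phi g` for every `x` centralizing `u`.
-/

set_option autoImplicit false

namespace CfsgLib.ExtClosed

open Cfsg

variable {G : Type*} [Group G] [Finite G] {H : Subgroup G}

/-- The factorization of the centralizer of `u`. -/
structure CentFactor (H : Subgroup G) (u : G) (O : Subgroup G) : Prop where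
  le : O ≤ Subgroup.centralizer ({u} : Set G)
  normal : Subgroup.centralizer ({u} : Set G) ≤ Subgroup.normalizer (O : Set G)
  odd : Odd (Nat.card O)
  factor : ∀ c ∈ Subgroup.centralizer ({u} : Set G), ∃ o ∈ O,
    ∃ n ∈ Subgroup.normalizer (H : Set G), c = o * n

/-- The inverted part of an element. -/
theorem exists_inverted {R : Subgroup G} {r u : G} (hu : u * u = 1) (hr : r ∈ R)
    (huR : u ∈ Subgroup.normalizer (R : Set G)) (hx : Odd (orderOf (r⁻¹ * u * r * u))) :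
    ∃ b ∈ R, Odd (orderOf b) ∧ u * b * u = b⁻¹ ∧ r * b⁻¹ ∈ Subgroup.centralizer ({u} : Set G) ∧
      b⁻¹ * b⁻¹ = r⁻¹ * u * r * u := by
  have hui : u⁻¹ = u := inv_eq_of_mul_eq_one_right hu
  set x := r⁻¹ * u * r * u with hxdef
  have hxR : x ∈ R := by
    have h1 : u * r * u⁻¹ ∈ R := (Subgroup.mem_normalizer_iff.mp huR r).mp hr
    rw [hui] at h1
    rw [hxdef, show r⁻¹ * u * r * u = r⁻¹ * (u * r * u) by group]
    exact mul_mem (inv_mem hr) h1
  obtain ⟨k, hk⟩ := hx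
  have hinv : u * x * u⁻¹ = x⁻¹ := by
    rw [hxdef]
    simp only [mul_inv_rev, inv_inv, hui, mul_assoc, hu, mul_one]
  set b := (x ^ (k + 1))⁻¹ with hb
  have hbb : b⁻¹ * b⁻¹ = x := by
    rw [hb, inv_inv, ← pow_add, show k + 1 + (k + 1) = orderOf x + 1 by omega, pow_succ,
      pow_orderOf_eq_one, one_mul]
  have hbinv : u * b * u = b⁻¹ := by
    have h1 : u * x ^ (k + 1) * u⁻¹ = (x ^ (k + 1))⁻¹ := by
      rw [← conj_pow, hinv, inv_pow]
    rw [hb, inv_inv]
    calc u * (x ^ (k + 1))⁻¹ * u = (u * x ^ (k + 1) * u⁻¹)⁻¹ := by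
          rw [mul_inv_rev, mul_inv_rev, inv_inv, hui, mul_assoc]
      _ = x ^ (k + 1) := by rw [h1, inv_inv]
  refine ⟨b, inv_mem (pow_mem hxR _), ?_, hbinv, ?_, hbb⟩
  · rw [hb, orderOf_inv]
    exact Odd.of_dvd_nat ⟨k, hk⟩ (orderOf_pow_dvd _)
  · rw [Subgroup.mem_centralizer_singleton_iff]
    have h2 : b⁻¹ * u * b = x * u := by
      rw [← hbb, mul_assoc (b⁻¹) u b, mul_assoc (b⁻¹) (b⁻¹) u]
      congr 1
      calc u * b = u * b * u * u := by rw [mul_assoc (u * b) u u, hu, mul_one]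
        _ = b⁻¹ * u := by rw [hbinv]
    have h3 : r * b⁻¹ * u * (r * b⁻¹)⁻¹ = u := by
      calc r * b⁻¹ * u * (r * b⁻¹)⁻¹ = r * (b⁻¹ * u * b) * r⁻¹ := by group
        _ = r * (x * u) * r⁻¹ := by rw [h2]
        _ = r * (r⁻¹ * u * r * u * u) * r⁻¹ := by rw [hxdef]
        _ = u * (r * (u * u) * r⁻¹) := by group
        _ = u := by rw [hu, mul_one, mul_inv_cancel, mul_one]
    exact mul_inv_eq_iff_eq_mul.mp h3

theorem inverted_unique {b c : G} (hb : Odd (orderOf b)) (hc : Odd (orderOf c))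
    (e : b⁻¹ * b⁻¹ = c⁻¹ * c⁻¹) : b = c := by
  obtain ⟨k, hk⟩ := hb.mul hc
  have key : ∀ d : G, orderOf d ∣ orderOf b * orderOf c → (d⁻¹ * d⁻¹) ^ (k + 1) = d⁻¹ := by
    intro d hd
    rw [← pow_two, ← pow_mul, show 2 * (k + 1) = orderOf b * orderOf c + 1 by omega, pow_succ,
      orderOf_dvd_iff_pow_eq_one.mp ((orderOf_inv d).symm ▸ hd), one_mul]
  rw [← inv_inj, ← key b (dvd_mul_right _ _), ← key c (dvd_mul_left _ _), e]

namespace Hyp

variable (h : Hyp H)
include h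

variable {u : G} {O : Subgroup G}

theorem le_centralizer (hu : u ∈ H) : H ≤ Subgroup.centralizer ({u} : Set G) := fun y hy => by
  rw [Subgroup.mem_centralizer_singleton_iff]
  exact h.mul_comm_mem hy hu

theorem phi_cent (hu : u ∈ H) (hF : CentFactor H u O) {o n₀ : G}
    (hn₀ : n₀ ∈ Subgroup.normalizer (H : Set G)) (ho : o ∈ O) :
    h.phi (o * n₀) = H.normalizerMonoidHom ⟨n₀, hn₀⟩ := by
  obtain ⟨n, rfl⟩ : ∃ n : Subgroup.normalizer (H : Set G), (n : G) = n₀ := ⟨⟨n₀, hn₀⟩, rfl⟩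
  rw [Subtype.coe_eta]
  have hHO := (h.le_centralizer hu).trans hF.normal
  obtain ⟨r, m, hr, hro, e, he⟩ := h.exists_phi (o * n)
  have hrK : r ∈ kJoin H o := by
    rw [← h.kJoin_mul_normalizer o n.2, e, h.kJoin_mul_normalizer r m.2]
    exact hr
  have hle : kJoin H o ≤ O ⊔ H := kJoin_le le_sup_right fun y hy =>
    mul_mem (mul_mem (Subgroup.mem_sup_left ho) (Subgroup.mem_sup_right hy))
      (inv_mem (Subgroup.mem_sup_left ho))
  have hr1 := hle hrK
  rw [← SetLike.mem_coe, Subgroup.coe_mul_of_right_le_normalizer_left O H hHO, Set.mem_mul] at hr1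
  obtain ⟨o1, ho1, k, hk, ek⟩ := hr1
  have hk1 : k = 1 := eq_one_of_mul hF.odd h.two hHO ho1 hk (ek.symm ▸ hro)
  have hrO : r ∈ O := by rw [← ek, hk1, mul_one]; exact ho1
  rw [he]
  have hz : ((n * m⁻¹ : Subgroup.normalizer (H : Set G)) : G) ∈ O := by
    have hnm : ((n * m⁻¹ : Subgroup.normalizer (H : Set G)) : G) = o⁻¹ * r := by
      rw [Subgroup.coe_mul, Subgroup.coe_inv, eq_inv_mul_iff_mul_eq, ← mul_assoc, e,
        mul_inv_cancel_right]
    rw [hnm]
    exact mul_mem (inv_mem ho) hrO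
  have h1 : H.normalizerMonoidHom (n * m⁻¹) = 1 := by
    refine MulEquiv.ext fun y => Subtype.ext ?_
    set z := n * m⁻¹
    show (z : G) * (y : G) * (z : G)⁻¹ = y
    rw [← mul_inv_eq_one]
    refine eq_one_of_odd_mem h.two (odd_orderOf_of_mem hF.odd ?_)
      (mul_mem (conj_mem_of_mem_normalizer z.2 y.2) (inv_mem y.2))
    rw [show (z : G) * (y : G) * (z : G)⁻¹ * (y : G)⁻¹ =
      (z : G) * ((y : G) * (z : G)⁻¹ * (y : G)⁻¹) by group]
    exact mul_mem hz ((Subgroup.mem_normalizer_iff.mp (hHO y.2) _).mp (inv_mem hz))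
  rw [map_mul, map_inv, mul_inv_eq_one] at h1
  exact h1.symm

theorem phi_cent_mul (hu : u ∈ H) (hF : CentFactor H u O) {c c' : G}
    (hc : c ∈ Subgroup.centralizer ({u} : Set G)) (hc' : c' ∈ Subgroup.centralizer ({u} : Set G)) :
    h.phi (c * c') = h.phi c * h.phi c' := by
  obtain ⟨o, ho, n, hn, e⟩ := hF.factor c hc
  obtain ⟨o', ho', n', hn', e'⟩ := hF.factor c' hc'
  have hnC : n ∈ Subgroup.centralizer ({u} : Set G) := by
    rw [show n = o⁻¹ * c by rw [e, inv_mul_cancel_left]]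
    exact mul_mem (inv_mem (hF.le ho)) hc
  rw [e, e', h.phi_cent hu hF hn ho, h.phi_cent hu hF hn' ho', ← map_mul,
    show o * n * (o' * n') = o * (n * o' * n⁻¹) * (n * n') by group]
  exact h.phi_cent hu hF (mul_mem hn hn')
    (mul_mem ho ((Subgroup.mem_normalizer_iff.mp (hF.normal hnC) o').mp ho'))

theorem phi_odd (hu : u ∈ H) (hF : CentFactor H u O) {R : Subgroup G} (hR : Odd (Nat.card R))
    (hHR : H ≤ Subgroup.normalizer (R : Set G)) {a : G} (ha : a ∈ R)
    (haC : a ∈ Subgroup.centralizer ({u} : Set G)) : h.phi a = 1 := by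
  have hHO := (h.le_centralizer hu).trans hF.normal
  obtain ⟨o, ho, n, hn, e⟩ := hF.factor a haC
  rw [e, h.phi_cent hu hF hn ho]
  refine MulEquiv.ext fun y => Subtype.ext ?_
  show n * (y : G) * n⁻¹ = y
  rw [← mul_inv_eq_one]
  have hk : n * (y : G) * n⁻¹ * (y : G)⁻¹ ∈ H :=
    mul_mem (conj_mem_of_mem_normalizer hn y.2) (inv_mem y.2)
  have hy' : n * (y : G) * n⁻¹ ∈ H := conj_mem_of_mem_normalizer hn y.2
  have hmem : a * (y : G) * a⁻¹ * (y : G)⁻¹ ∈ R := by
    rw [show a * (y : G) * a⁻¹ * (y : G)⁻¹ = a * ((y : G) * a⁻¹ * (y : G)⁻¹) by group]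
    exact mul_mem ha ((Subgroup.mem_normalizer_iff.mp (hHR y.2) _).mp (inv_mem ha))
  set w := n * (y : G) * n⁻¹ with hw
  have e2 : a * (y : G) * a⁻¹ * (y : G)⁻¹ = o * (w * o⁻¹ * w⁻¹) * (w * (y : G)⁻¹) := by
    rw [e, hw]; group
  refine eq_one_of_mul hF.odd h.two hHO
    (mul_mem ho ((Subgroup.mem_normalizer_iff.mp (hHO hy') _).mp (inv_mem ho))) hk ?_
  rw [← e2]
  exact odd_orderOf_of_mem hR hmem

theorem phi_mul_r (hu : u ∈ H) (hu2 : u * u = 1) (hF : CentFactor H u O) {x r : G}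
    (hx : x ∈ Subgroup.centralizer ({u} : Set G)) (hr : r ∈ kJoin H r) (hro : Odd (orderOf r)) :
    h.phi (x * r) = h.phi x := by
  have hui : u⁻¹ = u := inv_eq_of_mul_eq_one_right hu2
  obtain ⟨R, hRK, hKR, hRo, hdec, -, -⟩ := h.exists_complement r
  have hrR := h.mem_of_odd hKR hRo hdec hr hro
  have huR : u ∈ Subgroup.normalizer (R : Set G) := hKR (le_kJoin H r hu)
  have hxR : r⁻¹ * u * r * u ∈ R := by
    rw [show r⁻¹ * u * r * u = r⁻¹ * (u * r * u⁻¹) by rw [hui]; group]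
    exact mul_mem (inv_mem hrR) ((Subgroup.mem_normalizer_iff.mp huR r).mp hrR)
  obtain ⟨b, hbR, hbo, hbi, haC, hbb⟩ :=
    exists_inverted hu2 hrR huR (odd_orderOf_of_mem hRo hxR)
  set a := r * b⁻¹ with ha
  have hpa : h.phi a = 1 := h.phi_odd hu hF hRo ((le_kJoin H r).trans hKR)
    (mul_mem hrR (inv_mem hbR)) haC
  -- the decomposition of `y = x * r`
  obtain ⟨r', n, hr', hro', e, he⟩ := h.exists_phi (x * r)
  obtain ⟨R', -, hKR', hRo', hdec', -, -⟩ := h.exists_complement r'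
  have hrR' := h.mem_of_odd hKR' hRo' hdec' hr' hro'
  have huR' : u ∈ Subgroup.normalizer (R' : Set G) := hKR' (le_kJoin H r' hu)
  have hvR : r'⁻¹ * u * r' * u ∈ R' := by
    rw [show r'⁻¹ * u * r' * u = r'⁻¹ * (u * r' * u⁻¹) by rw [hui]; group]
    exact mul_mem (inv_mem hrR') ((Subgroup.mem_normalizer_iff.mp huR' r').mp hrR')
  have hcx : x⁻¹ * u * x = u := by
    rw [mul_assoc, ← Subgroup.mem_centralizer_singleton_iff.mp hx, inv_mul_cancel_left]
  have hy : (x * r)⁻¹ * u * (x * r) * u = b⁻¹ * b⁻¹ := by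
    rw [hbb, show (x * r)⁻¹ * u * (x * r) = r⁻¹ * (x⁻¹ * u * x) * r by group, hcx]
  -- `n` centralizes `u`
  have hnu : (n : G) * u * (n : G)⁻¹ = u := by
    have hw : (n : G) * u * (n : G)⁻¹ ∈ H := conj_mem_of_mem_normalizer n.2 hu
    have e3 : r'⁻¹ * u * r' * u * (u * ((n : G) * u * (n : G)⁻¹)) =
        (n : G) * ((x * r)⁻¹ * u * (x * r) * u) * (n : G)⁻¹ := by
      rw [e]
      simp only [mul_inv_rev, mul_assoc]
      simp [← mul_assoc u u, hu2]
    have hodd : Odd (orderOf (r'⁻¹ * u * r' * u * (u * ((n : G) * u * (n : G)⁻¹)))) := by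
      rw [e3, hy]
      have := MulEquiv.orderOf_eq (MulAut.conj (n : G)) (b⁻¹ * b⁻¹)
      simp only [MulAut.conj_apply] at this
      rw [this, ← pow_two]
      exact Odd.of_dvd_nat hbo ((orderOf_pow_dvd _).trans (orderOf_inv b).dvd)
    have := eq_one_of_mul hRo' h.two ((le_kJoin H r').trans hKR') hvR (mul_mem hu hw) hodd
    rw [← hui] at this
    nth_rw 1 [hui] at this
    rw [mul_eq_one_iff_inv_eq, hui] at this
    exact this.symm
  have hnC : (n : G) ∈ Subgroup.centralizer ({u} : Set G) := by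
    rw [Subgroup.mem_centralizer_singleton_iff]
    exact mul_inv_eq_iff_eq_mul.mp hnu
  have hncomm := Subgroup.mem_centralizer_singleton_iff.mp hnC
  obtain ⟨b', hbR', hbo', hbi', haC', hbb'⟩ :=
    exists_inverted hu2 hrR' huR' (odd_orderOf_of_mem hRo' hvR)
  have hbeq : (n : G)⁻¹ * b' * (n : G) = b := by
    refine inverted_unique ?_ hbo ?_
    · have := MulEquiv.orderOf_eq (MulAut.conj (n : G)⁻¹) b'
      simp only [MulAut.conj_apply, inv_inv] at this
      rw [this]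
      exact hbo'
    · rw [← hy, e]
      calc ((n : G)⁻¹ * b' * n)⁻¹ * ((n : G)⁻¹ * b' * n)⁻¹
          = (n : G)⁻¹ * (b'⁻¹ * b'⁻¹) * n := by group
        _ = (n : G)⁻¹ * (r'⁻¹ * u * r' * u) * n := by rw [hbb']
        _ = (r' * n)⁻¹ * u * r' * ((u * n)) := by group
        _ = (r' * n)⁻¹ * u * r' * ((n : G) * u) := by rw [hncomm]
        _ = (r' * n)⁻¹ * u * (r' * n) * u := by group
  set a' := r' * b'⁻¹ with ha'
  have hpa' : h.phi a' = 1 := h.phi_odd hu hF hRo' ((le_kJoin H r').trans hKR')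
    (mul_mem hrR' (inv_mem hbR')) haC'
  have hxa : x * a = a' * (n : G) := by
    rw [ha, ha', ← hbeq, ← mul_assoc, e]
    group
  have h1 : h.phi (x * a) = h.phi (a' * n) := by rw [hxa]
  rw [h.phi_cent_mul hu hF hx haC, h.phi_cent_mul hu hF haC' hnC, hpa, hpa', mul_one, one_mul,
    h.phi_normalizer] at h1
  rw [he, h1]

theorem phi_cent_mul_left (hu : u ∈ H) (hu2 : u * u = 1) (hF : CentFactor H u O) {x : G}
    (hx : x ∈ Subgroup.centralizer ({u} : Set G)) (g : G) :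
    h.phi (x * g) = h.phi x * h.phi g := by
  obtain ⟨r, n, hr, hro, e, he⟩ := h.exists_phi g
  rw [he, e, ← mul_assoc, h.phi_mul_normalizer, h.phi_mul_r hu hu2 hF hx hr hro]

end Hyp

end CfsgLib.ExtClosed
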