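import Cfsg.Prelude.Def_CaseTheorems
import Cfsg.Agent.Lib.ExtClosed.Cent
import Cfsg.Agent.Lib.Coprime.Generation
import Cfsg.Agent.Lib.Transfer.Focal
import Cfsg.Agent.Lib.PSolvable.Core
import Cfsg.Agent.Lib.ZStar.Main

/-!
# Extremely closed abelian 2-subgroups: `G = N(H) O(G)`
-/

set_option autoImplicit false

namespace CfsgLib.ExtClosed

open Cfsg

universe u

variable {G : Type u} [Group G] [Finite G] {H : Subgroup G}

theorem odd_pPrimeCore (G : Type*) [Group G] [Finite G] : Odd (Nat.card (pPrimeCore 2 G)) :=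
  Nat.not_even_iff_odd.mp fun he => Transfer.not_dvd_card_pPrimeCore (p := 2) he.two_dvd

theorem le_pPrimeCore_of_odd {N : Subgroup G} (hN : N.Normal) (h : Odd (Nat.card N)) :
    N ≤ pPrimeCore 2 G :=
  Transfer.le_pPrimeCore hN h.coprime_two_right

/-- Image of `kJoin`. -/
theorem map_kJoin {Q : Type*} [Group Q] [Finite Q] (f : G →* Q) (g : G) :
    H.map f ⊔ (H.map f).map (MulAut.conj (f g)).toMonoidHom = (kJoin H g).map f := by
  rw [kJoin, Subgroup.map_sup, Subgroup.map_map, Subgroup.map_map]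
  congr 2
  ext x
  simp

/-- The hypothesis passes to quotients by odd order normal subgroups. -/
theorem Hyp.quotient_odd (h : Hyp H) (N : Subgroup G) [N.Normal] (hN : Odd (Nat.card N)) :
    Hyp (H.map (QuotientGroup.mk' N)) where
  two := h.two.map _
  comm := by
    haveI := h.comm
    infer_instance
  closed := by
    intro c
    obtain ⟨g, rfl⟩ := QuotientGroup.mk'_surjective N c
    rw [map_kJoin]
    refine le_antisymm ?_ (le_inf (Subgroup.map_mono (le_kJoin H g)) Subgroup.le_normalizer)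
    rintro x ⟨⟨k, hk, rfl⟩, hxn⟩
    obtain ⟨R, hRK, hKR, hRo, hdec, htriv, -⟩ := h.exists_complement g
    obtain ⟨r, hr, y, hy, rfl⟩ := hdec k hk
    have hrn : QuotientGroup.mk' N r ∈
        Subgroup.normalizer ((H.map (QuotientGroup.mk' N) : Subgroup _) : Set (G ⧸ N)) := by
      have hxn' : QuotientGroup.mk' N (r * y) ∈
          Subgroup.normalizer ((H.map (QuotientGroup.mk' N) : Subgroup _) : Set (G ⧸ N)) := hxn
      have := mul_mem hxn' (inv_mem (Subgroup.le_normalizer
        (Subgroup.mem_map_of_mem (QuotientGroup.mk' N) hy)))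
      rwa [map_mul, mul_inv_cancel_right] at this
    have hHR : H ≤ Subgroup.normalizer (R : Set G) := (le_kJoin H g).trans hKR
    have hcop : (Nat.card H).Coprime (Nat.card R) := by
      obtain ⟨j, hj⟩ := IsPGroup.iff_card.mp h.two
      rw [hj]
      exact Nat.Coprime.pow_left j hRo.coprime_two_right.symm
    have hfix : ∀ a ∈ H, r⁻¹ * (a * r * a⁻¹) ∈ R ⊓ N := by
      intro a ha
      have hR' : r⁻¹ * (a * r * a⁻¹) ∈ R :=
        mul_mem (inv_mem hr) ((Subgroup.mem_normalizer_iff.mp (hHR ha) r).mp hr)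
      refine Subgroup.mem_inf.mpr ⟨hR', ?_⟩
      obtain ⟨a', ha', e⟩ := conj_mem_of_mem_normalizer (inv_mem hrn)
        (Subgroup.mem_map_of_mem (QuotientGroup.mk' N) ha)
      have hNH : H ≤ Subgroup.normalizer (N : Set G) := Subgroup.le_normalizer_of_normal
      have hn' : r⁻¹ * a * r * a'⁻¹ ∈ N := by
        have h0 : QuotientGroup.mk' N (r⁻¹ * a * r * a'⁻¹) = 1 := by
          rw [map_mul, map_mul, map_mul, map_inv, map_inv, e, inv_inv, mul_inv_cancel]
        exact (QuotientGroup.eq_one_iff _).mp h0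
      have h1 := eq_one_of_mul hN h.two hNH hn' (mul_mem ha' (inv_mem ha)) (by
        rw [show r⁻¹ * a * r * a'⁻¹ * (a' * a⁻¹) = r⁻¹ * (a * r * a⁻¹) by group]
        exact odd_orderOf_of_mem hRo hR')
      rw [mul_inv_eq_one] at h1
      rw [show r⁻¹ * (a * r * a⁻¹) = r⁻¹ * a * r * a⁻¹ by group]
      exact h1 ▸ hn'
    obtain ⟨c, hc, hcN⟩ := Coprime.exists_centralizer_mem_coset (N := R ⊓ N) hHR hcop
      (Or.inl (by haveI := h.comm; exact Coprime.isSolvable_of_isMulCommutative H)) inf_le_left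
      (Coprime.le_normalizer_inf_of_le hHR Subgroup.le_normalizer_of_normal) hr hfix
    have hc1 : c = 1 := htriv c (Subgroup.mem_inf.mp hc).1
      (Subgroup.centralizer_le_normalizer _ (Subgroup.mem_inf.mp hc).2)
    rw [hc1, mul_one] at hcN
    have hrN : r ∈ N := inv_mem_iff.mp (Subgroup.mem_inf.mp hcN).2
    rw [map_mul, show QuotientGroup.mk' N r = 1 from (QuotientGroup.eq_one_iff r).mpr hrN, one_mul]
    exact Subgroup.mem_map_of_mem _ hy

/-- The hypothesis passes to quotients by central subgroups inside `H`. -/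
theorem Hyp.quotient_le (h : Hyp H) (U : Subgroup G) [U.Normal] (hU : U ≤ H) :
    Hyp (H.map (QuotientGroup.mk' U)) where
  two := h.two.map _
  comm := by
    haveI := h.comm
    infer_instance
  closed := by
    intro c
    obtain ⟨g, rfl⟩ := QuotientGroup.mk'_surjective U c
    rw [map_kJoin]
    refine le_antisymm ?_ (le_inf (Subgroup.map_mono (le_kJoin H g)) Subgroup.le_normalizer)
    rintro x ⟨⟨k, hk, rfl⟩, hxn⟩
    refine Subgroup.mem_map_of_mem _ (h.mem_of_conj_mem_normalizer hk ?_)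
    refine mem_normalizer_of_conj_mem fun y hy => ?_
    have h1 := conj_mem_of_mem_normalizer hxn (Subgroup.mem_map_of_mem (QuotientGroup.mk' U) hy)
    rw [← map_inv, ← map_mul, ← map_mul, ← Subgroup.mem_comap,
      Subgroup.comap_map_eq_self (by rwa [QuotientGroup.ker_mk'])] at h1
    exact h1

/-- Isolated involutions of `H` in a normal subgroup containing `H` centralize it when `O(G) = 1`. -/
theorem Hyp.central_of_isolated (h : Hyp H) (hO : pPrimeCore 2 G = ⊥) {G₀ : Subgroup G}
    [G₀.Normal] (hH : H ≤ G₀) {v : G} (hv : orderOf v = 2) (hvH : v ∈ H)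
    (hiso : ∀ g ∈ G₀, g * v * g⁻¹ ∈ H → g * v * g⁻¹ = v) : ∀ g ∈ G₀, g * v * g⁻¹ = v := by
  classical
  obtain ⟨P, hP⟩ := (h.two.comap_of_injective G₀.subtype G₀.subtype_injective :
    IsPGroup 2 (H.subgroupOf G₀)).exists_le_sylow
  have hPn : ((P : Subgroup G₀).map G₀.subtype) ≤ Subgroup.normalizer (H : Set G) :=
    h.twoGroup_le_normalizer (P.2.map _) fun y hy => ⟨⟨y, hH hy⟩, hP hy, rfl⟩
  obtain ⟨N, hNn, hNo, hN⟩ := ZStar.exists_normal_odd_commutator_mem P (⟨v, hH hvH⟩ : G₀)
    (by rw [← Subgroup.orderOf_coe]; exact hv) (hP (show (⟨v, hH hvH⟩ : G₀) ∈ _ from hvH))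
    (fun g hg => Subtype.ext (hiso g g.2 (h.conj_mem_of_mem_normalizer' hvH
      (hPn ⟨_, hg, rfl⟩))))
  have hN1 : N = ⊥ := by
    have h1 : N ≤ pPrimeCore 2 G₀ := le_pPrimeCore_of_odd hNn hNo
    have h2 : (pPrimeCore 2 G₀).map G₀.subtype ≤ pPrimeCore 2 G := by
      refine le_pPrimeCore_of_odd (PSolvable.normal_map_of_characteristic G₀ _) ?_
      rw [Subgroup.card_map_of_injective G₀.subtype_injective]
      exact odd_pPrimeCore G₀
    rw [hO, le_bot_iff, Subgroup.map_eq_bot_iff_of_injective _ G₀.subtype_injective] at h2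
    exact le_bot_iff.mp (h1.trans h2.le)
  intro g hg
  have := hN ⟨g, hg⟩
  rw [hN1, Subgroup.mem_bot, mul_inv_eq_one, mul_inv_eq_iff_eq_mul] at this
  exact mul_inv_eq_iff_eq_mul.mpr (congrArg Subtype.val this).symm

theorem exists_involution_power (h : Hyp H) {a : G} (ha : a ∈ H) (ha1 : a ≠ 1) :
    ∃ j : ℕ, orderOf (a ^ j) = 2 := by
  obtain ⟨j, hj⟩ := h.two ⟨a, ha⟩
  have hd : orderOf a ∣ 2 ^ j := orderOf_dvd_of_pow_eq_one (by simpa using congrArg Subtype.val hj)
  obtain ⟨i, -, hi⟩ := (Nat.dvd_prime_pow Nat.prime_two).mp hd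
  rcases i with _ | i
  · rw [pow_zero, orderOf_eq_one_iff] at hi
    exact absurd hi ha1
  · refine ⟨2 ^ i, ?_⟩
    rw [orderOf_pow' _ (pow_ne_zero _ (by norm_num)), hi, pow_succ, Nat.gcd_mul_right_left,
      Nat.mul_div_cancel_left _ (by positivity)]

theorem normalizer_eq_top_aux : ∀ (n : ℕ) (G : Type u) [Group G] [Finite G] (H : Subgroup G),
    Nat.card G = n → Hyp H →
      Subgroup.normalizer (H : Set G) ⊔ pPrimeCore 2 G = ⊤ := by
  intro n
  induction n using Nat.strong_induction_on with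
  | _ n ih =>
  intro G _ _ H hn h
  classical
  subst hn
  haveI hOn : (pPrimeCore 2 G).Normal := Transfer.pPrimeCore_normal 2 G
  rcases eq_or_ne H ⊥ with rfl | hH1
  · rw [eq_top_iff]
    refine le_sup_of_le_left fun x _ => mem_normalizer_of_conj_mem fun y hy => ?_
    rw [Subgroup.mem_bot] at hy
    simp [hy]
  by_cases hO : pPrimeCore 2 G = ⊥
  swap
  · -- pass to `G / O(G)`
    set N := pPrimeCore 2 G with hN
    set f := QuotientGroup.mk' N with hf
    have hlt : Nat.card (G ⧸ N) < Nat.card G := by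
      rw [Subgroup.card_eq_card_quotient_mul_card_subgroup N]
      exact lt_mul_of_one_lt_right Nat.card_pos (Finite.one_lt_card_iff_nontrivial.mpr
        ((Subgroup.nontrivial_iff_ne_bot _).mpr hO))
    have hq := ih _ hlt (G ⧸ N) _ rfl (h.quotient_odd N (odd_pPrimeCore G))
    have hOQ : pPrimeCore 2 (G ⧸ N) = ⊥ :=
      PSolvable.pPrimeCore_eq_bot_of_ker (QuotientGroup.mk'_surjective N) (QuotientGroup.ker_mk' N)
    rw [hOQ, sup_bot_eq] at hq
    -- Frattini
    rw [eq_top_iff]
    intro g _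
    obtain ⟨R, hRK, hKR, hRo, -, -, r, hr, hrn⟩ := h.exists_complement g
    have hle : kJoin H g ≤ H ⊔ N := by
      refine kJoin_le le_sup_left fun y hy => ?_
      have h1 : f (g * y * g⁻¹) ∈ H.map f := by
        rw [map_mul, map_mul, map_inv]
        exact conj_mem_of_mem_normalizer (hq.symm ▸ Subgroup.mem_top (f g))
          (Subgroup.mem_map_of_mem f hy)
      rw [← Subgroup.mem_comap, Subgroup.comap_map_eq, QuotientGroup.ker_mk'] at h1
      exact h1
    have hr' := hle (hRK hr)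
    rw [sup_comm, ← SetLike.mem_coe, Subgroup.normal_mul, Set.mem_mul] at hr'
    obtain ⟨o, ho, k, hk, ek⟩ := hr'
    have hk1 : k = 1 := eq_one_of_mul (odd_pPrimeCore G) h.two Subgroup.le_normalizer_of_normal
      ho hk (ek.symm ▸ odd_orderOf_of_mem hRo hr)
    have hrN : r ∈ N := by rw [← ek, hk1, mul_one]; exact ho
    rw [sup_comm, ← mul_inv_cancel_left r g]
    exact mul_mem (Subgroup.mem_sup_left hrN) (Subgroup.mem_sup_right hrn)
  rw [hO, sup_bot_eq]
  by_cases hz : ∃ v ∈ H, orderOf v = 2 ∧ ∀ g : G, g * v * g⁻¹ = v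
  · -- pass to `G / ⟨v⟩`
    obtain ⟨v, hvH, hv, hvc⟩ := hz
    set U := Subgroup.zpowers v with hU
    have hUH : U ≤ H := Subgroup.zpowers_le.mpr hvH
    have hcen : ∀ x ∈ U, ∀ g : G, g * x = x * g := by
      rintro x ⟨i, rfl⟩ g
      have : Commute g v := mul_inv_eq_iff_eq_mul.mp (hvc g)
      exact (this.zpow_right i).eq
    haveI : U.Normal := ⟨fun x hx g => by rw [hcen x hx g, mul_inv_cancel_right]; exact hx⟩
    have hlt : Nat.card (G ⧸ U) < Nat.card G := by
      rw [Subgroup.card_eq_card_quotient_mul_card_subgroup U]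
      exact lt_mul_of_one_lt_right Nat.card_pos (by rw [hU, Nat.card_zpowers, hv]; norm_num)
    have hq := ih _ hlt (G ⧸ U) _ rfl (h.quotient_le U hUH)
    have hOQ : pPrimeCore 2 (G ⧸ U) = ⊥ := by
      set M := (pPrimeCore 2 (G ⧸ U)).comap (QuotientGroup.mk' U) with hM
      haveI : (pPrimeCore 2 (G ⧸ U)).Normal := Transfer.pPrimeCore_normal 2 _
      haveI : M.Normal := Subgroup.Normal.comap inferInstance _
      let P : Sylow 2 M := Classical.arbitrary _
      have hPU : ∀ s ∈ (P : Subgroup M), (s : G) ∈ U := by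
        intro s hs
        have : QuotientGroup.mk' U (s : G) = 1 := by
          obtain ⟨j, hj⟩ := P.2 ⟨s, hs⟩
          have hj' : (s : G) ^ (2 ^ j) = 1 := by
            simpa using congrArg (fun x : (P : Subgroup M) => ((x : M) : G)) hj
          rw [← orderOf_eq_one_iff]
          refine Nat.eq_one_of_dvd_coprimes ?_ (Subgroup.orderOf_dvd_natCard (pPrimeCore 2 (G ⧸ U)) s.2)
            (orderOf_dvd_of_pow_eq_one (by rw [← map_pow, hj', map_one]))
          exact Nat.Coprime.pow_right j (odd_pPrimeCore (G ⧸ U)).coprime_two_right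
        exact (QuotientGroup.eq_one_iff _).mp this
      obtain ⟨P', Q, hQn, hQ⟩ := Transfer.hasNormalPComplement_of_central P fun s hs =>
        Subgroup.mem_center_iff.mpr fun x => Subtype.ext (hcen _ (hPU s hs) x)
      have hQ1 : Q = ⊥ := by
        have hQo : (Nat.card Q).Coprime 2 := Transfer.coprime_card_of_isComplement' hQ
        have h1 : Q ≤ pPrimeCore 2 M := Transfer.le_pPrimeCore hQn hQo
        have h2 : (pPrimeCore 2 M).map M.subtype ≤ pPrimeCore 2 G := by
          refine le_pPrimeCore_of_odd (PSolvable.normal_map_of_characteristic M _) ?_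
          rw [Subgroup.card_map_of_injective M.subtype_injective]
          exact odd_pPrimeCore M
        rw [hO, le_bot_iff, Subgroup.map_eq_bot_iff_of_injective _ M.subtype_injective] at h2
        exact le_bot_iff.mp (h1.trans h2.le)
      rw [hQ1] at hQ
      have hP'top : (P' : Subgroup M) = ⊤ := by
        rw [← bot_sup_eq (P' : Subgroup M)]
        exact hQ.sup_eq_top
      rw [eq_bot_iff]
      intro x hx
      obtain ⟨y, rfl⟩ := QuotientGroup.mk'_surjective U x
      obtain ⟨j, hj⟩ := P'.2 ⟨⟨y, hx⟩, hP'top.symm ▸ Subgroup.mem_top _⟩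
      have hj' : y ^ (2 ^ j) = 1 := by
        simpa using congrArg (fun x : (P' : Subgroup M) => ((x : M) : G)) hj
      rw [Subgroup.mem_bot, ← orderOf_eq_one_iff]
      refine Nat.eq_one_of_dvd_coprimes ?_ (Subgroup.orderOf_dvd_natCard _ hx)
        (orderOf_dvd_of_pow_eq_one (by rw [← map_pow, hj', map_one]))
      exact Nat.Coprime.pow_right j (odd_pPrimeCore (G ⧸ U)).coprime_two_right
    rw [hOQ, sup_bot_eq] at hq
    rw [eq_top_iff]
    intro g _
    refine mem_normalizer_of_conj_mem fun y hy => ?_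
    have h1 := conj_mem_of_mem_normalizer (hq.symm ▸ Subgroup.mem_top (QuotientGroup.mk' U g))
      (Subgroup.mem_map_of_mem (QuotientGroup.mk' U) hy)
    rw [← map_inv, ← map_mul, ← map_mul, ← Subgroup.mem_comap,
      Subgroup.comap_map_eq_self (by rwa [QuotientGroup.ker_mk'])] at h1
    exact h1
  -- factorization of the centralizers of involutions of `H`
  have hcase : ∀ S : Subgroup G, S ≠ ⊤ → H ≤ S →
      ∀ c ∈ S, ∃ o ∈ (pPrimeCore 2 S).map S.subtype,
        ∃ m ∈ Subgroup.normalizer (H : Set G), c = o * m := by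
    intro S hS hHS c hc
    have hlt : Nat.card S < Nat.card G :=
      lt_of_le_of_ne (Nat.le_of_dvd Nat.card_pos S.card_subgroup_dvd_card)
        fun e => hS (Subgroup.eq_top_of_card_eq S e)
    have hq := ih _ hlt S _ rfl (h.subgroupOf hHS)
    haveI := Transfer.pPrimeCore_normal 2 S
    have hc' : (⟨c, hc⟩ : S) ∈ pPrimeCore 2 S ⊔
        Subgroup.normalizer ((H.subgroupOf S : Subgroup S) : Set S) := by
      rw [sup_comm, hq]; trivial
    obtain ⟨o, ho, m, hm, e⟩ := Subgroup.mem_sup_of_normal_left.mp hc'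
    exact ⟨o, ⟨o, ho, rfl⟩, m, mem_normalizer_of_conj_mem fun y hy =>
      (Subgroup.mem_normalizer_iff.mp hm ⟨y, hHS hy⟩).mp hy, (congrArg Subtype.val e).symm⟩
  have hF : ∀ v ∈ H, orderOf v = 2 →
      CentFactor H v ((pPrimeCore 2 (Subgroup.centralizer ({v} : Set G))).map
        (Subgroup.centralizer ({v} : Set G)).subtype) := by
    intro v hvH hv
    set C := Subgroup.centralizer ({v} : Set G) with hC
    have hCtop : C ≠ ⊤ := by
      intro e
      refine hz ⟨v, hvH, hv, fun g => mul_inv_eq_iff_eq_mul.mpr ?_⟩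
      exact Subgroup.mem_centralizer_singleton_iff.mp (e.symm ▸ Subgroup.mem_top g : g ∈ C)
    refine ⟨Subgroup.map_subtype_le _, ?_, ?_, hcase C hCtop (h.le_centralizer hvH)⟩
    · intro x hx
      refine mem_normalizer_of_conj_mem ?_
      rintro _ ⟨y, hy, rfl⟩
      exact Subgroup.mem_map.mpr
        ⟨⟨x, hx⟩ * y * ⟨x, hx⟩⁻¹, (Transfer.pPrimeCore_normal 2 C).conj_mem y hy ⟨x, hx⟩, rfl⟩
    · rw [Subgroup.card_map_of_injective C.subtype_injective]
      exact odd_pPrimeCore C
  haveI := h.comm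
  by_cases hcyc : IsCyclic H
  · -- a unique involution, which is isolated
    exfalso
    obtain ⟨a, ha, ha1⟩ := (Subgroup.ne_bot_iff_exists_ne_one.mp hH1 : ∃ a : H, a ≠ 1) |>
      fun ⟨a, ha⟩ => (⟨(a : G), a.2, by simpa using ha⟩ : ∃ a ∈ H, a ≠ 1)
    obtain ⟨j, hj⟩ := exists_involution_power h ha ha1
    set v := a ^ j
    have hvH : v ∈ H := pow_mem ha j
    refine hz ⟨v, hvH, hj, fun g => h.central_of_isolated hO (G₀ := ⊤) le_top hj hvH ?_ g trivial⟩
    intro x _ hx
    have hx2 : orderOf (x * v * x⁻¹) = 2 := by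
      rw [← MulAut.conj_apply, MulEquiv.orderOf_eq, hj]
    haveI := Fintype.ofFinite H
    have hcard : ({y : H | orderOf y = 2} : Finset H).card = 1 := by
      rw [IsCyclic.card_orderOf_eq_totient, Nat.totient_two]
      rw [← Nat.card_eq_fintype_card, ← hj]
      exact H.orderOf_dvd_natCard hvH
    have := Finset.card_le_one.mp hcard.le ⟨_, hx⟩ (Finset.mem_filter.mpr ⟨Finset.mem_univ _, by rw [← Subgroup.orderOf_coe]; exact hx2⟩)
      ⟨v, hvH⟩ (Finset.mem_filter.mpr ⟨Finset.mem_univ _, by rw [← Subgroup.orderOf_coe]; exact hj⟩)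
    exact congrArg Subtype.val this
  -- `phi` is a homomorphism
  let M₀ : Submonoid G :=
    { carrier := {x | ∀ g, h.phi (x * g) = h.phi x * h.phi g}
      one_mem' := fun g => by
        rw [one_mul, show h.phi (1 : G) = 1 from h.phi_r (one_mem _) (by simp), one_mul]
      mul_mem' := fun {x y} hx hy g => by rw [mul_assoc, hx, hy, ← mul_assoc, ← hx] }
  let M : Subgroup G :=
    { M₀ with
      inv_mem' := fun {x} hx => by
        have : x⁻¹ = x ^ (orderOf x - 1) := by
          rw [eq_comm, eq_inv_iff_mul_eq_one, ← pow_succ,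
            Nat.sub_add_cancel (orderOf_pos x), pow_orderOf_eq_one]
        show x⁻¹ ∈ M₀
        rw [this]
        exact pow_mem hx _ }
  have hMtop : ∀ g, g ∈ M := by
    intro g
    obtain ⟨R, hRK, hKR, hRo, -, -, r, hr, hrn⟩ := h.exists_complement g
    have hRM : R ≤ M := by
      refine Coprime.le_of_centralizer_le hcyc ((le_kJoin H g).trans hKR) ?_ fun a ha ha1 => ?_
      · obtain ⟨j, hj⟩ := IsPGroup.iff_card.mp h.two
        rw [hj]
        exact Nat.Coprime.pow_left j hRo.coprime_two_right.symm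
      · obtain ⟨j, hj⟩ := exists_involution_power h ha ha1
        intro x hx
        have hvv : a ^ j * a ^ j = 1 := by rw [← pow_two, ← hj, pow_orderOf_eq_one]
        have hxc : x ∈ Subgroup.centralizer ({a ^ j} : Set G) := by
          rw [Subgroup.mem_centralizer_singleton_iff]
          have hc : Commute x a :=
            Subgroup.mem_centralizer_singleton_iff.mp (Subgroup.mem_inf.mp hx).2
          exact (hc.pow_right j).eq
        exact h.phi_cent_mul_left (pow_mem ha j) hvv (hF _ (pow_mem ha j) hj) hxc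
    rw [← mul_inv_cancel_left r g]
    refine mul_mem (hRM hr) fun g' => ?_
    rw [show r⁻¹ * g = ((⟨_, hrn⟩ : Subgroup.normalizer (H : Set G)) : G) from rfl,
      h.phi_normalizer_mul, h.phi_normalizer]
  let Φ : G →* MulAut H := MonoidHom.mk' h.phi fun x y => hMtop x y
  set G₀ := Φ.ker with hG₀
  have hker : ∀ x, x ∈ G₀ ↔ h.phi x = 1 := fun x => Iff.rfl
  have hHG₀ : H ≤ G₀ := by
    intro y hy
    rw [hker, h.phi_normalizer ⟨y, Subgroup.le_normalizer hy⟩]
    refine MulEquiv.ext fun w => Subtype.ext ?_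
    show y * (w : G) * y⁻¹ = w
    rw [h.mul_comm_mem hy w.2, mul_inv_cancel_right]
  obtain ⟨a, ha, ha1⟩ : ∃ a ∈ H, a ≠ 1 := by
    obtain ⟨a, ha⟩ := Subgroup.ne_bot_iff_exists_ne_one.mp hH1
    exact ⟨a, a.2, by simpa using ha⟩
  obtain ⟨j, hj⟩ := exists_involution_power h ha ha1
  set v := a ^ j
  have hvH : v ∈ H := pow_mem ha j
  have hcent : ∀ g ∈ G₀, g * v * g⁻¹ = v := by
    refine h.central_of_isolated hO hHG₀ hj hvH fun g hg hgH => ?_
    obtain ⟨r, m, hr, hro, e, he⟩ := h.exists_phi g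
    have hm : (m : G) * v * (m : G)⁻¹ = v := by
      have h1 : H.normalizerMonoidHom m = 1 := he ▸ (hker g).mp hg
      have h2 : (H.normalizerMonoidHom m ⟨v, hvH⟩ : H) = (⟨v, hvH⟩ : H) := by rw [h1]; rfl
      exact congrArg Subtype.val h2
    obtain ⟨R, -, hKR, hRo, hdec, -, -⟩ := h.exists_complement r
    have hrR := h.mem_of_odd hKR hRo hdec hr hro
    have hgv : g * v * g⁻¹ = r * v * r⁻¹ := by
      rw [e, show r * m * v * (r * m)⁻¹ = r * (m * v * (m : G)⁻¹) * r⁻¹ by group, hm]
    rw [hgv] at hgH ⊢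
    rw [← mul_inv_eq_one]
    refine eq_one_of_odd_mem h.two (odd_orderOf_of_mem hRo ?_) (mul_mem hgH (inv_mem hvH))
    rw [show r * v * r⁻¹ * v⁻¹ = r * (v * r⁻¹ * v⁻¹) by group]
    exact mul_mem hrR
      ((Subgroup.mem_normalizer_iff.mp (hKR (le_kJoin H r hvH)) _).mp (inv_mem hrR))
  have hG₀top : G₀ ≠ ⊤ := fun e => hz ⟨v, hvH, hj, fun g => hcent g (e ▸ Subgroup.mem_top g)⟩
  have hG₀N : G₀ ≤ Subgroup.normalizer (H : Set G) := by
    intro x hx
    obtain ⟨o, ho, m, hm, rfl⟩ := hcase G₀ hG₀top hHG₀ x hx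
    have h2 : (pPrimeCore 2 G₀).map G₀.subtype ≤ pPrimeCore 2 G := by
      refine le_pPrimeCore_of_odd (PSolvable.normal_map_of_characteristic G₀ _) ?_
      rw [Subgroup.card_map_of_injective G₀.subtype_injective]
      exact odd_pPrimeCore G₀
    have := h2 ho
    rw [hO, Subgroup.mem_bot] at this
    rwa [this, one_mul]
  rw [eq_top_iff]
  intro g _
  obtain ⟨r, m, hr, hro, e, -⟩ := h.exists_phi g
  rw [e]
  exact mul_mem (hG₀N ((hker r).mpr (h.phi_r hr hro))) m.2

theorem normalizer_sup_oddCore {G : Type*} [Group G] [Finite G] {H : Subgroup G}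
    (h2 : IsPGroup 2 H) (hab : IsMulCommutative H) (hcl : IsExtremelyClosed H) :
    Subgroup.normalizer (H : Set G) ⊔ oddCore G = ⊤ :=
  normalizer_eq_top_aux _ G H rfl ⟨h2, hab, hcl⟩

end CfsgLib.ExtClosed
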